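import Cfsg.Agent.Lib.GWApps.SameNorm.OddCase
import Cfsg.Agent.Lib.GWApps.SameNorm.TwoCase
import Cfsg.Agent.Lib.GWApps.GenDihedralMain
import Cfsg.Agent.S2202

/-!
Semisimple groups in which the nontrivial subgroups of a cyclic subgroup of even order have the
same normalizer are `PSL₂(q)` or `PGL₂(q)`, given the Gorenstein–Walter theorem.
-/

set_option autoImplicit false

open scoped MatrixGroups

namespace CfsgLib.GWApps.SameNorm

universe u

variable {G : Type u} [Group G] [Finite G]

/-- The Sylow 2-subgroups are not cyclic. -/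
theorem not_isCyclic_sylow (hns : ¬ Group.IsSolvable G) (P : Sylow 2 G) :
    ¬ IsCyclic (P : Subgroup G) := fun h =>
  hns (GenDihedral.isSolvable_of_cyclic_sylow P h)

/-- A maximal non-abelian centralizer of an involution, unless all of them are abelian. -/
theorem exists_setting (hG : EqNorm G) (hss : Semisimple G)
    (hna : ¬ ∀ t : G, orderOf t = 2 → IsMulCommutative ↥(Subgroup.centralizer ({t} : Set G))) :
    Nonempty (Setting G) := by
  classical
  haveI : Fact (Nat.Prime 2) := ⟨Nat.prime_two⟩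
  let Q : G → Prop := fun z => orderOf z = 2 ∧
    (∃ S : Sylow 2 G, (S : Subgroup G) ≤ Subgroup.centralizer ({z} : Set G)) ∧
    ∃ a ∈ Subgroup.centralizer ({z} : Set G), ∃ b ∈ Subgroup.centralizer ({z} : Set G), a * b ≠ b * a
  -- some such involution exists
  have hQ : ∃ z, Q z := by
    push Not at hna
    obtain ⟨t, ht, hnab⟩ := hna
    obtain ⟨a, ha, b, hb, hab⟩ : ∃ a ∈ Subgroup.centralizer ({t} : Set G),
        ∃ b ∈ Subgroup.centralizer ({t} : Set G), a * b ≠ b * a := by
      by_contra hh
      push Not at hh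
      exact hnab ⟨⟨fun x y => Subtype.ext (hh x x.2 y y.2)⟩⟩
    have hP : IsPGroup 2 (Subgroup.zpowers t) :=
      IsPGroup.of_card (n := 1) (by rw [Nat.card_zpowers, ht, pow_one])
    obtain ⟨T, hT⟩ := hP.exists_le_sylow
    have htT : t ∈ (T : Subgroup G) := hT (Subgroup.mem_zpowers t)
    by_cases hTt : (T : Subgroup G) ≤ Subgroup.centralizer ({t} : Set G)
    · exact ⟨t, ht, ⟨T, hTt⟩, a, ha, b, hb, hab⟩
    · -- a non-abelian Sylow subgroup
      obtain ⟨s, hs, hst⟩ := SetLike.not_le_iff_exists.1 hTt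
      rw [Subgroup.mem_centralizer_singleton_iff] at hst
      haveI : Nontrivial (T : Subgroup G) := ⟨⟨⟨t, htT⟩, 1, fun h => by
        have : t = 1 := congrArg Subtype.val h
        rw [this, orderOf_one] at ht
        omega⟩⟩
      haveI := T.isPGroup'.center_nontrivial
      obtain ⟨z, hz⟩ : ∃ z : Subgroup.center (T : Subgroup G), orderOf z = 2 := by
        refine exists_prime_orderOf_dvd_card' 2 ?_
        obtain ⟨n, hn⟩ := IsPGroup.iff_card.1
          (T.isPGroup'.to_subgroup (Subgroup.center (T : Subgroup G)))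
        rcases n with - | n
        · rw [pow_zero] at hn
          exact absurd hn Finite.one_lt_card.ne'
        · rw [hn]; exact dvd_pow_self 2 n.succ_ne_zero
      have hTz : (T : Subgroup G) ≤
          Subgroup.centralizer ({((z : (T : Subgroup G)) : G)} : Set G) := fun x hx =>
        Subgroup.mem_centralizer_singleton_iff.2
          (congrArg Subtype.val (Subgroup.mem_center_iff.1 z.2 ⟨x, hx⟩))
      exact ⟨_, by rw [Subgroup.orderOf_coe, Subgroup.orderOf_coe, hz], ⟨T, hTz⟩, s, hTz hs, t,
        hTz htT, hst⟩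
  -- a maximal one
  obtain ⟨z, hzQ, hmax⟩ := Set.exists_max_image {z | Q z}
    (fun z => Nat.card (Subgroup.centralizer ({z} : Set G))) (Set.toFinite _) hQ
  obtain ⟨hz, ⟨S, hS⟩, a, ha, b, hb, hab⟩ := hzQ
  refine ⟨⟨Subgroup.centralizer ({z} : Set G), S, z, hG, hss, hz, rfl, hS, ⟨a, ha, b, hb, hab⟩,
    fun j hj hj2 hcen => ?_⟩⟩
  have hle : Subgroup.centralizer ({z} : Set G) ≤ Subgroup.centralizer ({j} : Set G) := fun h hh =>
    Subgroup.mem_centralizer_singleton_iff.2 (hcen h hh)
  exact (Subgroup.eq_of_le_of_card_ge hle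
    (hmax j ⟨hj2, ⟨S, hS.trans hle⟩, a, hle ha, b, hle hb, hab⟩)).symm

/-- S3730, given the Gorenstein–Walter theorem. -/
theorem main (hGW : DihedralPerfect.{u}) [Nontrivial G] (hss : Semisimple G) (hG : EqNorm G) :
    ∃ (F : Type) (_ : Field F) (_ : Fintype F), 3 < Fintype.card F ∧
      (Nonempty (G ≃* Matrix.ProjectiveSpecialLinearGroup (Fin 2) F) ∨
        Nonempty (G ≃* Matrix.ProjGenLinGroup (Fin 2) F)) := by
  classical
  haveI : Fact (Nat.Prime 2) := ⟨Nat.prime_two⟩
  have hns : ¬ Group.IsSolvable G := fun h => by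
    haveI : Group.IsSolvable G := h
    exact bot_ne_top (hss ⊤ inferInstance inferInstance).symm
  have heven : Even (Nat.card G) :=
    Nat.not_odd_iff_even.1 fun h => hns (Cfsg.Agent.S0205.result h)
  by_cases hab : ∀ t : G, orderOf t = 2 → IsMulCommutative ↥(Subgroup.centralizer ({t} : Set G))
  · obtain hc | hn | ⟨F, iF, iT, A, iA, iAf, hch, hAodd, ⟨e⟩⟩ := Cfsg.Agent.S2202.result heven hab
    · obtain ⟨P⟩ : Nonempty (Sylow 2 G) := inferInstance
      exact absurd (hc P) (not_isCyclic_sylow hns P)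
    · obtain ⟨P⟩ : Nonempty (Sylow 2 G) := inferInstance
      have hPs : Group.IsSolvable (P : Subgroup G) := by
        haveI := P.isPGroup'.isNilpotent
        infer_instance
      have hb := hss _ (hn P) hPs
      exact absurd (Subgroup.eq_bot_iff_forall _ |>.1 hb) fun h => by
        have hd : 2 ∣ Nat.card (P : Subgroup G) :=
          P.dvd_card_of_dvd_card (even_iff_two_dvd.1 heven)
        rw [hb, Subgroup.card_bot] at hd
        omega
    · haveI := hch
      -- the abelian factor is a solvable normal subgroup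
      set N := ((MonoidHom.inr (Matrix.SpecialLinearGroup (Fin 2) F) A).range).map e.symm.toMonoidHom
      have hNn : N.Normal := by
        refine Subgroup.Normal.map ?_ _ e.symm.surjective
        refine ⟨?_⟩
        rintro _ ⟨x, rfl⟩ ⟨g1, g2⟩
        refine ⟨x, ?_⟩
        simp [Prod.ext_iff, mul_comm g2 x]
      have hNs : Group.IsSolvable N := Group.isSolvable_of_comm fun a b => by
        obtain ⟨_, ⟨y, rfl⟩, hy⟩ := a.2
        obtain ⟨_, ⟨z, rfl⟩, hz⟩ := b.2
        refine Subtype.ext ?_
        rw [Subgroup.coe_mul, Subgroup.coe_mul, ← hy, ← hz, ← map_mul, ← map_mul, ← map_mul,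
          ← map_mul, mul_comm y z]
      have hA1 : ∀ y : A, y = 1 := by
        intro y
        have h1 : e.symm (1, y) ∈ N := ⟨_, ⟨y, rfl⟩, rfl⟩
        rw [hss N hNn hNs, Subgroup.mem_bot, ← map_one e.symm] at h1
        exact congrArg Prod.snd (e.symm.injective h1)
      haveI : Unique A := ⟨⟨1⟩, hA1⟩
      have e1 : G ≃* Matrix.SpecialLinearGroup (Fin 2) F := e.trans MulEquiv.prodUnique
      refine ⟨F, iF, iT, GenDihedral.three_lt_card_field ?_, Or.inl ⟨e1.trans ?_⟩⟩
      · rw [← Nat.card_congr e1.toEquiv]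
        obtain ⟨P⟩ : Nonempty (Sylow 2 G) := inferInstance
        obtain ⟨n, hn⟩ := IsPGroup.iff_card.1 P.isPGroup'
        have h2 : 2 ≤ n := by
          by_contra hlt
          refine not_isCyclic_sylow hns P ?_
          have h1 : Nat.card (P : Subgroup G) = 1 ∨ Nat.card (P : Subgroup G) = 2 := by
            rcases (show n = 0 ∨ n = 1 by omega) with rfl | rfl <;> simp [hn]
          rcases h1 with h1 | h1
          · haveI := (Nat.card_eq_one_iff_unique.1 h1).1
            infer_instance
          · exact isCyclic_of_prime_card h1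
        exact ((pow_dvd_pow 2 h2).trans hn.symm.dvd).trans (Subgroup.card_subgroup_dvd_card _)
      · exact (QuotientGroup.quotientBot (G := SL(2, F))).symm.trans
          (QuotientGroup.quotientMulEquivOfEq
            (CfsgLib.SL2.center_eq_bot_of_two (CharTwo.two_eq_zero (R := F))).symm)
  obtain ⟨d⟩ := exists_setting hG hss hab
  obtain ⟨A, hAH, hD⟩ : ∃ A : Subgroup G, A < d.H ∧ ∀ g ∈ d.H, g ∉ A → g ^ 2 = 1 := by
    by_cases hodd : ∃ x ∈ d.H, Odd (orderOf x) ∧ x ≠ 1
    · exact d.exists_dGroup_of_odd hodd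
    · refine d.exists_dGroup_of_two fun x hx => ?_
      push Not at hodd
      obtain ⟨k, m, hm, hkm⟩ := Nat.exists_eq_two_pow_mul_odd (orderOf_pos x).ne'
      refine ⟨k, ?_⟩
      have hym : orderOf (x ^ 2 ^ k) = m := by
        rw [orderOf_pow' x (pow_ne_zero k two_ne_zero), hkm, Nat.gcd_mul_right_left,
          Nat.mul_div_cancel_left _ (by positivity)]
      have h1 := hodd (x ^ 2 ^ k) (pow_mem hx _) (hym.symm ▸ hm)
      rw [h1, orderOf_one] at hym
      rw [hkm, ← hym, mul_one]
  have h4 : 4 ∣ Nat.card d.H := by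
    obtain ⟨n, hn⟩ := IsPGroup.iff_card.1 d.S.isPGroup'
    have h2 : 2 ≤ n := by
      by_contra hlt
      refine not_isCyclic_sylow hns d.S ?_
      rcases (show n = 0 ∨ n = 1 by omega) with rfl | rfl
      · rw [pow_zero] at hn
        haveI := (Nat.card_eq_one_iff_unique.1 hn).1
        infer_instance
      · exact isCyclic_of_prime_card (by simpa using hn)
    exact ((pow_dvd_pow 2 h2).trans hn.symm.dvd).trans (Subgroup.card_dvd_of_le d.hSH)
  obtain ⟨N, hN, hcard, F, iF, iT, h3, he⟩ := GenDihedral.concl_of_genDihedral hGW d.H A hAH hD h4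
    d.hC hns
  have hNs : Group.IsSolvable N := by
    rcases hcard with ho | ⟨m, hm, hm2⟩
    · exact Cfsg.Agent.S0205.result ho
    · obtain ⟨P⟩ : Nonempty (Sylow 2 N) := inferInstance
      refine GenDihedral.isSolvable_of_cyclic_sylow P (isCyclic_of_prime_card (p := 2) ?_)
      rw [P.card_eq_multiplicity, hm2, Nat.factorization_mul two_ne_zero hm.pos.ne']
      simp [Nat.prime_two.factorization_self,
        Nat.factorization_eq_zero_of_not_dvd (show ¬ 2 ∣ m from fun h => by
          have := Nat.odd_iff.1 hm; omega)]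
  have hb := hss N hN hNs
  refine ⟨F, iF, iT, h3, ?_⟩
  have eN : G ≃* G ⧸ N :=
    (QuotientGroup.quotientBot (G := G)).symm.trans (QuotientGroup.quotientMulEquivOfEq hb.symm)
  rcases he with he | he
  · exact Or.inl (he.map fun e => eN.trans e)
  · exact Or.inr (he.map fun e => eN.trans e)

end CfsgLib.GWApps.SameNorm
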